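import Cfsg.Agent.H475.KGL.Rows

/-!
# Project KGL (helper347): the basic situation as a matrix group over the field of endomorphisms

In the basic situation `BSit p e A M C ρ` the endomorphisms of `W` commuting with `M` form a field `E` with `p ^ e`
elements and `C` is a subgroup of `GL_n(E)`, `|W| = (p ^ e) ^ n`; the elements of `C` commuting with `M` are scalars.

* `exists_gl`;
* `scalar_comm` : an element of `C` commuting with `M` is central in `C`;
* `a_comm` : `A` is central in `C`;
* `card_le` : a subgroup of `C` consisting of elements commuting with `M` has order at most `p ^ e - 1`.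
-/

set_option autoImplicit false

namespace Cfsg.Agent.H347.KGL

open Cfsg.Agent.H475.KGL Subgroup

universe u v w

theorem exists_gl_of_field {p : ℕ} {E : Type w} {L : Type u} {V : Type v} [Field E] [Group L] [AddCommGroup V]
    [Module (ZMod p) V] [Module E V] [Finite V] [Nontrivial V] (ρ : L →* (V ≃ₗ[ZMod p] V))
    (hinj : Function.Injective ρ) (hE : ∀ (g : L) (c : E) (v : V), ρ g (c • v) = c • ρ g v) :
    ∃ (n : ℕ) (σ : L →* Matrix.GeneralLinearGroup (Fin n) E), Nat.card V = Nat.card E ^ n ∧ Function.Injective σ ∧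
      ∀ (g : L) (c : E), (∀ v, ρ g v = c • v) → (σ g : Matrix (Fin n) (Fin n) E) = c • 1 := by
  classical
  have hfd : FiniteDimensional E V := Module.Finite.of_finite
  let σ1 : L →* Module.End E V :=
    { toFun := fun g =>
        { toFun := ρ g
          map_add' := map_add _
          map_smul' := fun c v => hE g c v }
      map_one' := by
        ext v
        exact congrArg (fun f : V ≃ₗ[ZMod p] V => f v) (map_one ρ)
      map_mul' := fun g h => by
        ext v
        exact congrArg (fun f : V ≃ₗ[ZMod p] V => f v) (map_mul ρ g h) }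
  have hσ1 : ∀ g v, σ1 g v = ρ g v := fun _ _ => rfl
  let e := LinearMap.toMatrixAlgEquiv (Module.finBasis E V)
  refine ⟨Module.finrank E V, (Units.map (e : Module.End E V →* Matrix (Fin (Module.finrank E V))
    (Fin (Module.finrank E V)) E)).comp σ1.toHomUnits, Module.natCard_eq_pow_finrank, ?_, ?_⟩
  · intro g h hgh
    apply hinj
    have h1 := congrArg Units.val hgh
    have h2 : e (σ1 g) = e (σ1 h) := h1
    have h3 := e.injective h2
    ext v
    rw [← hσ1, ← hσ1, h3]
  · intro g c hgc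
    change e (σ1 g) = c • 1
    have h1 : σ1 g = c • 1 := by
      ext v
      rw [hσ1, hgc]
      rfl
    rw [h1, map_smul, map_one]

variable {p e : ℕ} [Fact p.Prime] {H : Type u} [Group H] {A M C : Subgroup H} {W : Type v}
  [AddCommGroup W] [Module (ZMod p) W] [Finite W] {ρ : C →* (W ≃ₗ[ZMod p] W)}

theorem exists_gl (h : BSit p e A M C ρ) : ∃ (E : Type v) (_ : Field E) (n : ℕ)
    (σ : C →* Matrix.GeneralLinearGroup (Fin n) E), CharP E p ∧ Nat.card E = p ^ e ∧ Nat.card W = (p ^ e) ^ n ∧
      Function.Injective σ ∧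
      ∀ c : C, (∀ m ∈ M, (c : H) * m = m * c) → ∃ s : E, (σ c : Matrix (Fin n) (Fin n) E) = s • 1 := by
  have := h.nt
  let A' : Subalgebra (ZMod p) (Module.End (ZMod p) W) :=
    Subalgebra.centralizer (ZMod p) (Set.range fun m : {m : C // (m : H) ∈ M} =>
      ((ρ m : W ≃ₗ[ZMod p] W) : Module.End (ZMod p) W))
  have hA : ∀ f : Module.End (ZMod p) W, f ∈ A' ↔ ∀ m : C, (m : H) ∈ M → ∀ w, f (ρ m w) = ρ m (f w) := by
    intro f
    rw [Subalgebra.mem_centralizer_iff]
    constructor
    · intro h m hm w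
      exact (congrArg (fun a : Module.End (ZMod p) W => a w) (h _ ⟨⟨m, hm⟩, rfl⟩)).symm
    · rintro h _ ⟨m, rfl⟩
      ext w
      exact (h m.1 m.2 w).symm
  have hfinEnd : Finite (Module.End (ZMod p) W) := Finite.of_injective (fun f : Module.End (ZMod p) W => (f : W → W))
    DFunLike.coe_injective
  have hker : ∀ f ∈ A', f ≠ 0 → Function.Injective f := by
    intro f hf hf0
    rw [← LinearMap.ker_eq_bot]
    refine (h.irr (LinearMap.ker f) ?_).resolve_right fun h => hf0 (LinearMap.ker_eq_top.1 h)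
    intro m hm w hw
    rw [LinearMap.mem_ker] at hw ⊢
    rw [(hA f).1 hf m hm, hw, map_zero]
  have hnt : Nontrivial A' := by
    refine ⟨⟨0, 1, fun h => ?_⟩⟩
    obtain ⟨w, hw⟩ := exists_ne (0 : W)
    have := congrArg (fun a : A' => (a : Module.End (ZMod p) W) w) h
    exact hw this.symm
  have hdom : IsDomain A' := by
    have : NoZeroDivisors A' := by
      refine ⟨fun {a b} hab => ?_⟩
      by_cases ha : a = 0
      · exact Or.inl ha
      · right
        have h1 := hker a.1 a.2 (fun h => ha (Subtype.ext h))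
        apply Subtype.ext
        ext w
        apply h1
        have h2 := congrArg (fun a : A' => (a : Module.End (ZMod p) W) w) hab
        change a.1 (b.1 w) = _
        rw [show a.1 (b.1 w) = 0 from h2]
        change 0 = a.1 0
        rw [map_zero]
    exact NoZeroDivisors.to_isDomain A'
  let FA : Field A' := (Finite.isDomain_to_isField A').toField
  have hcA : Nat.card A' = p ^ e := by
    rw [← h.endq]
    exact Nat.card_congr (Equiv.subtypeEquivRight hA)
  let MA : Module A' W := Subalgebra.moduleLeft A'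
  obtain ⟨n, σ, h1, h2, h3⟩ := @exists_gl_of_field p A' C W FA _ _ _ MA _ _ ρ h.inj
    (fun g c w => ((h.endC c.1 ((hA c.1).1 c.2)) g w).symm)
  refine ⟨A', FA, n, σ, ?_, hcA, ?_, h2, ?_⟩
  · rw [CharP.charP_iff_prime_eq_zero Fact.out]
    apply Subtype.ext
    ext w
    change ((p : ℕ) : A').1 w = 0
    have h3 : ((p : ℕ) : A').1 = ((p : ℕ) : Module.End (ZMod p) W) := rfl
    rw [h3, Module.End.natCast_apply, ← Nat.cast_smul_eq_nsmul (ZMod p), ZMod.natCast_self, zero_smul]
  · rw [h1, hcA]
  · intro c hc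
    refine ⟨⟨((ρ c : W ≃ₗ[ZMod p] W) : Module.End (ZMod p) W), (hA _).2 ?_⟩, h3 c _ fun w => rfl⟩
    intro m hm w
    change (ρ c * ρ m) w = (ρ m * ρ c) w
    rw [← map_mul, ← map_mul]
    have : c * m = m * c := Subtype.ext (hc m hm)
    rw [this]

omit [Finite W] in
/-- An element of `C` commuting with `M` is central in `C`. -/
theorem scalar_comm (h : BSit p e A M C ρ) {c : H} (hc : c ∈ C) (hcm : ∀ m ∈ M, c * m = m * c) {d : H} (hd : d ∈ C) :
    c * d = d * c := by
  have h1 := h.endC ((ρ ⟨c, hc⟩ : W ≃ₗ[ZMod p] W) : Module.End (ZMod p) W) (fun m hm w => by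
    change (ρ ⟨c, hc⟩ * ρ m) w = (ρ m * ρ ⟨c, hc⟩) w
    rw [← map_mul, ← map_mul]
    have : (⟨c, hc⟩ : C) * m = m * ⟨c, hc⟩ := Subtype.ext (hcm m hm)
    rw [this]) ⟨d, hd⟩
  have h2 : (⟨c, hc⟩ : C) * ⟨d, hd⟩ = ⟨d, hd⟩ * ⟨c, hc⟩ := by
    apply h.inj
    rw [map_mul, map_mul]
    ext w
    exact h1 w
  exact congrArg Subtype.val h2

omit [Finite W] in
theorem a_comm (h : BSit p e A M C ρ) {a : H} (ha : a ∈ A) {d : H} (hd : d ∈ C) : a * d = d * a :=
  scalar_comm h (h.le (h.lt.le ha)) (fun m hm => h.com a ha m hm) hd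

/-- A subgroup of `C` centralising `M` has order at most `p ^ e - 1`. -/
theorem card_le (h : BSit p e A M C ρ) (Z : Subgroup C) (hZ : ∀ z ∈ Z, ∀ m ∈ M, (z : H) * m = m * z) :
    Nat.card Z ≤ p ^ e - 1 := by
  classical
  obtain ⟨E, _, n, σ, -, hE, hW, hσ, hs⟩ := exists_gl h
  have hp : p.Prime := Fact.out
  have hfE : Finite E := Nat.finite_of_card_ne_zero (by rw [hE]; exact (pow_pos hp.pos _).ne')
  have := h.nt
  have hn : n ≠ 0 := by
    rintro rfl
    rw [pow_zero] at hW
    exact absurd (Finite.one_lt_card_iff_nontrivial.2 h.nt) (by omega)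
  have : Nonempty (Fin n) := ⟨⟨0, by omega⟩⟩
  choose s hs using hs
  have h1 : Nat.card {x : E // x ≠ 0} = p ^ e - 1 := by
    have := Fintype.ofFinite E
    rw [Nat.card_eq_fintype_card, Fintype.card_subtype_compl (fun x : E => x = 0), Fintype.card_subtype_eq,
      ← Nat.card_eq_fintype_card, hE]
  rw [← h1]
  refine Nat.card_le_card_of_injective (fun z => ⟨s z.1 (hZ _ z.2), ?_⟩) ?_
  · intro h0
    have h2 := hs z.1 (hZ _ z.2)
    rw [h0, zero_smul] at h2
    have h3 : (σ z.1 : Matrix (Fin n) (Fin n) E) * ((σ z.1)⁻¹ : Matrix.GeneralLinearGroup (Fin n) E) = 1 := by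
      rw [← Matrix.GeneralLinearGroup.coe_mul, mul_inv_cancel, Matrix.GeneralLinearGroup.coe_one]
    rw [h2, zero_mul] at h3
    exact zero_ne_one h3
  · intro z z' hzz
    have h2 : s z.1 (hZ _ z.2) = s z'.1 (hZ _ z'.2) := congrArg Subtype.val hzz
    apply Subtype.ext
    apply hσ
    apply Units.ext
    rw [hs z.1 (hZ _ z.2), hs z'.1 (hZ _ z'.2), h2]

theorem one_le_e (h : BSit p e A M C ρ) : 1 ≤ e := by
  obtain ⟨E, _, n, σ, -, hE, hW, hσ, hs⟩ := exists_gl h
  have hp : p.Prime := Fact.out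
  have hfE : Finite E := Nat.finite_of_card_ne_zero (by rw [hE]; exact (pow_pos hp.pos _).ne')
  have h1 : 1 < Nat.card E := Finite.one_lt_card
  rw [hE] at h1
  rcases Nat.eq_zero_or_pos e with h0 | h0
  · rw [h0] at h1
    simp at h1
  · exact h0

end Cfsg.Agent.H347.KGL
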