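import Mathlib

/-!
# Project KGL, task 1865 (helper347): two by two matrices

`no_sq` : if `X` is not scalar, `X ^ 5` is scalar, and `X` is conjugate to `α X ^ 2`, then `5 = 0`.
-/

set_option autoImplicit false

namespace Cfsg.Agent.H347.KGL

open Matrix

theorem no_sq {E : Type*} [Field E] (X : Matrix (Fin 2) (Fin 2) E) (G G' : Matrix (Fin 2) (Fin 2) E)
    (hG : G * G' = 1) {α β : E} (h5 : X ^ 5 = β • (1 : Matrix (Fin 2) (Fin 2) E))
    (hX : ∀ c : E, X ≠ c • (1 : Matrix (Fin 2) (Fin 2) E)) (hd : X.det ≠ 0)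
    (hc : G * X * G' = α • X ^ 2) : (5 : E) = 0 := by
  set t := X.trace with ht
  set d := X.det with hd'
  have hG' : G' * G = 1 := mul_eq_one_comm.1 hG
  have h2 : X ^ 2 = t • X - d • (1 : Matrix (Fin 2) (Fin 2) E) := by
    rw [ht, hd', Matrix.trace_fin_two, Matrix.det_fin_two]
    ext i j
    fin_cases i <;> fin_cases j <;> simp [pow_two, Matrix.mul_apply, Fin.sum_univ_two] <;> ring
  have h3 : X ^ 3 = (t ^ 2 - d) • X - (t * d) • (1 : Matrix (Fin 2) (Fin 2) E) := by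
    rw [pow_succ, h2, sub_mul, smul_mul_assoc, ← pow_two, h2]
    simp only [smul_sub, smul_smul, smul_mul_assoc, one_mul, sub_smul]
    rw [pow_two, mul_comm t d]
    abel
  have h5' : X ^ 5 = (t ^ 4 - 3 * t ^ 2 * d + d ^ 2) • X - (d * (t ^ 3 - 2 * t * d)) • (1 : Matrix (Fin 2) (Fin 2) E) := by
    have : X ^ 5 = X ^ 3 * X ^ 2 := by rw [← pow_add]
    rw [this, h3, h2]
    rw [sub_mul, mul_sub, mul_sub]
    simp only [smul_mul_assoc, mul_smul_comm, mul_one, one_mul, smul_smul]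
    rw [← pow_two, h2]
    simp only [smul_sub, smul_smul]
    module
  have hU : t ^ 4 - 3 * t ^ 2 * d + d ^ 2 = 0 := by
    by_contra hU
    have h6 : (t ^ 4 - 3 * t ^ 2 * d + d ^ 2) • X =
        (β + d * (t ^ 3 - 2 * t * d)) • (1 : Matrix (Fin 2) (Fin 2) E) := by
      rw [add_smul β, ← h5, h5']
      abel
    apply hX ((t ^ 4 - 3 * t ^ 2 * d + d ^ 2)⁻¹ * (β + d * (t ^ 3 - 2 * t * d)))
    rw [mul_smul, ← h6, smul_smul, inv_mul_cancel₀ hU, one_smul]
  have htr : t = α * (t ^ 2 - 2 * d) := by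
    have h6 : (G * X * G').trace = t := by
      rw [Matrix.trace_mul_cycle, hG', one_mul]
    rw [hc, h2, Matrix.trace_smul, Matrix.trace_sub, Matrix.trace_smul, Matrix.trace_smul, ← ht, Matrix.trace_one] at h6
    simp only [smul_eq_mul, Fintype.card_fin] at h6
    push_cast at h6
    linear_combination -h6
  have hdet : α ^ 2 * d = 1 := by
    have h6 : (G * X * G').det = d := by
      rw [Matrix.det_mul, Matrix.det_mul, mul_comm G.det, mul_assoc, ← Matrix.det_mul, hG, Matrix.det_one, mul_one]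
    rw [hc, Matrix.det_smul, Matrix.det_pow, Fintype.card_fin, ← hd'] at h6
    have h7 : d * (α ^ 2 * d) = d * 1 := by linear_combination h6
    exact mul_left_cancel₀ hd h7
  have e1 : t ^ 2 * d = (t ^ 2 - 2 * d) ^ 2 := by
    have : t ^ 2 = α ^ 2 * (t ^ 2 - 2 * d) ^ 2 := by
      calc t ^ 2 = (α * (t ^ 2 - 2 * d)) ^ 2 := by rw [← htr]
        _ = _ := by ring
    calc t ^ 2 * d = (α ^ 2 * (t ^ 2 - 2 * d) ^ 2) * d := by rw [← this]
      _ = (α ^ 2 * d) * (t ^ 2 - 2 * d) ^ 2 := by ring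
      _ = _ := by rw [hdet, one_mul]
  have e2 : d * (3 * d - 2 * t ^ 2) = 0 := by linear_combination -e1 - hU
  have e3 : 3 * d - 2 * t ^ 2 = 0 := (mul_eq_zero.1 e2).resolve_left hd
  have e4 : d ^ 2 * 5 = 0 := by linear_combination (-4 : E) * hU + (3 * d - 2 * t ^ 2) * e3 
  exact (mul_eq_zero.1 e4).resolve_left (pow_ne_zero 2 hd)

end Cfsg.Agent.H347.KGL
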